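import Groth.Agent.H12Pic.PicCurve.Functor

/-!
# Local finite presentation of a Picard scheme covered by representable open pieces
-/

set_option autoImplicit false
set_option linter.style.haveILetI false
set_option linter.unusedSectionVars false
set_option backward.isDefEq.respectTransparency.types false

noncomputable section

universe u

open CategoryTheory CategoryTheory.Limits AlgebraicGeometry TopologicalSpace Opposite

namespace Groth.Agent.H29Jac

open Groth.Agent.H17.PullCl Groth.Agent.H12Pic.RigPoints Groth.Agent.H12Pic.PicCurve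

variable {X S : Scheme.{u}} (f : X ⟶ S) {σ : S ⟶ X} (hσ : σ ≫ f = 𝟙 S)
  (ha : ∀ (T : Over S) (U : T.left.Opens), IsIso ((PicF.XTproj f T).app U))
  {ι : Type u} (W : ι → Over S) (u₀ : ∀ i, PicF.Rig f σ hσ (W i))
  (hopen : ∀ (T : Over S) (c : PicF.Rig f σ hσ T), ∃ O : ι → T.left.Opens,
    (∀ x : T.left, ∃ i, x ∈ O i) ∧ ∀ i (T' : Over S) (p : T' ⟶ T),
      (∃ h : T' ⟶ W i, rigPull f hσ h (u₀ i) = rigPull f hσ p c) ↔
        Set.range p.left ⊆ (O i : Set T.left))

include ha hopen in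
/-- If the pieces are locally of finite presentation, so is the representing scheme. -/
theorem rigRepresentable_of_open_cover_lfp
    (hinj : ∀ i (T : Over S), Function.Injective fun h : T ⟶ W i => rigPull f hσ h (u₀ i))
    (hW : ∀ i, LocallyOfFinitePresentation (W i).hom) :
    ∃ (P : Over S) (ξ : PicF.Rig f σ hσ P),
      (∀ (T : Over S) (c : PicF.Rig f σ hσ T), ∃! g : T ⟶ P, PicF.pullCl (PicF.XTmap f g) ξ.1 = c.1) ∧
      LocallyOfFinitePresentation P.hom := by
  obtain ⟨P, ξ, huniv⟩ := rigRepresentable_of_open_cover f hσ ha W u₀ hopen hinj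
  refine ⟨P, ξ, huniv, ?_⟩
  obtain ⟨O, hcov, hO⟩ := hopen P ξ
  rw [IsZariskiLocalAtSource.iff_of_iSup_eq_top (P := @LocallyOfFinitePresentation) (U := O)
    (eq_top_iff.2 fun x _ => by obtain ⟨i, hi⟩ := hcov x; exact TopologicalSpace.Opens.mem_iSup.2 ⟨i, hi⟩)]
  intro i
  let Q : Over S := AbDual.ovr P (O i).ι
  let q : Q ⟶ P := AbDual.ovrHom P (O i).ι
  obtain ⟨h, hh⟩ := (hO i Q q).2 (Scheme.Opens.range_ι (O i)).le
  obtain ⟨g, hg, -⟩ := huniv (W i) (u₀ i)
  have hgr : Set.range g.left ⊆ Set.range (O i).ι := by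
    rw [Scheme.Opens.range_ι]
    exact (hO i (W i) g).1 ⟨𝟙 _, (rigPull_id f hσ _).trans (Subtype.ext hg.symm)⟩
  let g' : W i ⟶ Q := Over.homMk (IsOpenImmersion.lift (O i).ι g.left hgr) (by
    show _ ≫ (O i).ι ≫ P.hom = _
    rw [IsOpenImmersion.lift_fac_assoc]
    exact Over.w g)
  have hg' : g' ≫ q = g := Over.OverMorphism.ext (IsOpenImmersion.lift_fac _ _ _)
  have h1 : h ≫ g = q := by
    refine (huniv Q (rigPull f hσ q ξ)).unique ?_ rfl
    rw [XTmap_comp, pullCl_comp, hg]
    exact congrArg Subtype.val hh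
  have h2 : g' ≫ h = 𝟙 (W i) := hinj i (W i) (by
    show rigPull f hσ (g' ≫ h) (u₀ i) = rigPull f hσ (𝟙 _) (u₀ i)
    rw [← rigPull_comp, hh, rigPull_comp, hg', rigPull_id]
    exact Subtype.ext hg)
  haveI : IsIso h.left := by
    refine ⟨g'.left, ?_, congrArg CommaMorphism.left h2⟩
    rw [← cancel_mono (O i).ι]
    have h3 : h ≫ g' ≫ q = q := by rw [hg', h1]
    have h4 := congrArg CommaMorphism.left h3
    rw [Category.assoc]
    exact h4.trans (Category.id_comp _).symm
  haveI := hW i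
  have e : h.left ≫ (W i).hom = (O i).ι ≫ P.hom := Over.w h
  rw [← e]
  infer_instance

end Groth.Agent.H29Jac
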