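import Groth.Agent.H29Jac.Points
import Groth.Agent.H12Pic.PicCurve.PicZeroOpen
import Mathlib.CategoryTheory.Monoidal.Cartesian.CommGrp_
import Mathlib.CategoryTheory.Monoidal.Cartesian.Over

/-!
# The Jacobian: the degree zero part of a scheme representing the rigidified Picard functor of a curve
-/

set_option autoImplicit false
set_option linter.style.haveILetI false
set_option linter.unusedSectionVars false
set_option maxHeartbeats 1200000
set_option backward.isDefEq.respectTransparency.types false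

noncomputable section

universe u

open CategoryTheory CategoryTheory.Limits AlgebraicGeometry Opposite MonoidalCategory CartesianMonoidalCategory MonObj

namespace Groth.Agent.H29Jac

open Groth.Agent.H17.PullCl Groth.Agent.H12Pic.RigPoints Groth.Agent.H12Pic.PicCurve
open Groth.Agent.H25Theta (Cls cls pull pullU unitCls pb)
open Groth.Agent.H29Ell (jSub jMap)

variable {X S : Scheme.{u}} (f : X ⟶ S) [IsProper f] [SmoothOfRelativeDimension 1 f] [GeometricallyConnected f]
  {σ : S ⟶ X} (hσ : σ ≫ f = 𝟙 S) {P : Over S} {ξ : PicF.Rig f σ hσ P}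
  (huniv : ∀ (T : Over S) (c : PicF.Rig f σ hσ T), ∃! g : T ⟶ P, PicF.pullCl (PicF.XTmap f g) ξ.1 = c.1)

include huniv in
theorem exists_degree' : ∃ d : ↥P.left → ℤ, IsLocallyConstant d ∧
    ∀ (T : Over S) (L : (PicF.XT f T).Modules), PicF.IsInvertible L → ∀ t : T.left,
      d ((phi f hσ huniv T (PicF.cl L)).left t) = degAt f T L t := by
  haveI : Smooth f := SmoothOfRelativeDimension.smooth 1 f
  exact exists_degree f P _ (isRelPicK f hσ huniv) (hdim_family f)

/-- The degree on the representing scheme. -/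
def degree : ↥P.left → ℤ := (exists_degree' f hσ huniv).choose

theorem degree_isLocallyConstant : IsLocallyConstant (degree f hσ huniv) :=
  (exists_degree' f hσ huniv).choose_spec.1

theorem degree_spec (T : Over S) (L : (PicF.XT f T).Modules) (hL : PicF.IsInvertible L) (t : T.left) :
    degree f hσ huniv ((phi f hσ huniv T (PicF.cl L)).left t) = degAt f T L t :=
  (exists_degree' f hσ huniv).choose_spec.2 T L hL t

/-- The degree zero part. -/
abbrev zeroOpen : P.left.Opens :=
  ⟨degree f hσ huniv ⁻¹' {0}, (degree_isLocallyConstant f hσ huniv).isOpen_fiber 0⟩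

/-- The degree zero part as an object over the base. -/
def jac : Over S := Over.mk ((zeroOpen f hσ huniv).ι ≫ P.hom)

/-- Its inclusion. -/
def incl : jac f hσ huniv ⟶ P := Over.homMk (zeroOpen f hσ huniv).ι rfl

instance : IsOpenImmersion (incl f hσ huniv).left :=
  inferInstanceAs (IsOpenImmersion (zeroOpen f hσ huniv).ι)

theorem degree_pt {T : Over S} (u : PicGroup.rigSub f hσ T) (L : (PicF.XT f T).Modules) (hL : PicF.IsInvertible L)
    (hLu : cls L = u.1.1) (t : T.left) :
    degree f hσ huniv ((pt f hσ huniv u).left t) = degAt f T L t := by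
  rw [← degree_spec f hσ huniv T L hL t, show PicF.cl L = (u.1.1 : PicF.Cl (PicF.XT f T)) from hLu, phi_rig]

theorem range_subset_iff {T : Over S} (u : PicGroup.rigSub f hσ T) :
    Set.range (pt f hσ huniv u).left ⊆ (zeroOpen f hσ huniv : Set P.left) ↔
      AbDual.IsPicZeroCl f T (u.1.1 : PicF.Cl (PicF.XT f T)) := by
  obtain ⟨L, hLu, hL⟩ := id u.2.1
  have key : ∀ t, (pt f hσ huniv u).left t ∈ zeroOpen f hσ huniv ↔ degAt f T L t = 0 := fun t => by
    rw [← degree_pt f hσ huniv u L hL hLu t]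
    rfl
  rw [← show PicF.cl L = (u.1.1 : PicF.Cl (PicF.XT f T)) from hLu, isPicZeroCl_iff_degAt f T hL,
    Set.range_subset_iff]
  exact forall_congr' key

/-- The point of the degree zero part attached to a degree zero class. -/
def jPt {T : Over S} (u : jSub f σ hσ T) : T ⟶ jac f hσ huniv :=
  Over.homMk (IsOpenImmersion.lift (incl f hσ huniv).left (pt f hσ huniv ⟨u.1, u.2.1⟩).left
      (((range_subset_iff f hσ huniv ⟨u.1, u.2.1⟩).2 u.2.2).trans (Scheme.Opens.range_ι _).ge)) (by
    refine (congrArg (_ ≫ ·) (Over.w (incl f hσ huniv)).symm).trans ?_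
    show IsOpenImmersion.lift _ _ _ ≫ (incl f hσ huniv).left ≫ P.hom = T.hom
    rw [IsOpenImmersion.lift_fac_assoc]
    exact Over.w _)

theorem jPt_incl {T : Over S} (u : jSub f σ hσ T) :
    jPt f hσ huniv u ≫ incl f hσ huniv = pt f hσ huniv ⟨u.1, u.2.1⟩ :=
  Over.OverMorphism.ext (IsOpenImmersion.lift_fac (incl f hσ huniv).left _ _)

theorem incl_cancel {T : Over S} {a b : T ⟶ jac f hσ huniv}
    (h : a ≫ incl f hσ huniv = b ≫ incl f hσ huniv) : a = b :=
  Over.OverMorphism.ext ((cancel_mono (zeroOpen f hσ huniv).ι).1 (congrArg CommaMorphism.left h))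

/-- The degree zero class attached to a point. -/
def jElt {T : Over S} (a : T ⟶ jac f hσ huniv) : jSub f σ hσ T :=
  ⟨(elt f hσ (ξ := ξ) (a ≫ incl f hσ huniv)).1, (elt f hσ (ξ := ξ) (a ≫ incl f hσ huniv)).2,
    (range_subset_iff f hσ huniv (elt f hσ (ξ := ξ) (a ≫ incl f hσ huniv))).1 (by
      rw [pt_elt, ← Scheme.Opens.range_ι]
      exact Set.range_comp_subset_range a.left (zeroOpen f hσ huniv).ι)⟩

/-- Points and degree zero classes. -/
def jEquiv (T : Over S) : (T ⟶ jac f hσ huniv) ≃ jSub f σ hσ T where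
  toFun := jElt f hσ huniv
  invFun := jPt f hσ huniv
  left_inv a := incl_cancel f hσ huniv (by
    rw [jPt_incl]
    exact pt_elt f hσ huniv (a ≫ incl f hσ huniv))
  right_inv u := by
    refine Subtype.ext ?_
    show (elt f hσ (ξ := ξ) (jPt f hσ huniv u ≫ incl f hσ huniv)).1 = u.1
    rw [jPt_incl]
    exact congrArg Subtype.val ((ptEquiv f hσ huniv T).left_inv ⟨u.1, u.2.1⟩)

/-- The functor to commutative groups. -/
def jFunctor' : (Over S)ᵒᵖ ⥤ CommGrpCat.{u + 1} where
  obj T := CommGrpCat.of (jSub f σ hσ T.unop)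
  map g := CommGrpCat.ofHom (jMap f σ hσ g.unop)
  map_id T := CommGrpCat.hom_ext (MonoidHom.ext fun u => Subtype.ext (by
    show pullU (PicF.XTmap f (𝟙 T.unop)) u.1 = u.1
    rw [H27HilbOps.XTmap_id, H25Theta.pullU_id]))
  map_comp a b := CommGrpCat.hom_ext (MonoidHom.ext fun u => Subtype.ext (by
    show pullU (PicF.XTmap f (b.unop ≫ a.unop)) u.1 = pullU _ (pullU _ u.1)
    rw [H25Theta.pullU_pullU, XTmap_comp]))

theorem jElt_natural {T T' : Over S} (g : T' ⟶ T) (a : T ⟶ jac f hσ huniv) :
    jElt f hσ huniv (g ≫ a) = jMap f σ hσ g (jElt f hσ huniv a) := by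
  refine (jEquiv f hσ huniv T').symm.injective ?_
  refine ((jEquiv f hσ huniv T').left_inv (g ≫ a)).trans (incl_cancel f hσ huniv ?_)
  show (g ≫ a) ≫ incl f hσ huniv = jPt f hσ huniv (jMap f σ hσ g (jElt f hσ huniv a)) ≫ incl f hσ huniv
  rw [jPt_incl, Category.assoc, ← pt_elt f hσ huniv (a ≫ incl f hσ huniv)]
  exact (pt_natural f hσ huniv g _).symm

/-- The degree zero part represents the functor of degree zero classes. -/
def jacRep : (jFunctor' f hσ ⋙ forget CommGrpCat).RepresentableBy (jac f hσ huniv) where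
  homEquiv {T} := jEquiv f hσ huniv T
  homEquiv_comp k a := jElt_natural f hσ huniv k a

/-- The commutative group law on the Jacobian. -/
@[instance_reducible]
def commGrpObj : CommGrpObj (jac f hσ huniv) := CommGrpObj.ofRepresentableBy _ (jFunctor' f hσ) (jacRep f hσ huniv)

theorem jElt_mul {T : Over S} (a b : T ⟶ jac f hσ huniv) :
    letI := commGrpObj f hσ huniv
    jElt f hσ huniv (a * b) = jElt f hσ huniv a * jElt f hσ huniv b := by
  letI := commGrpObj f hσ huniv
  let J := jac f hσ huniv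
  have hμ : jElt f hσ huniv μ[J] = jElt f hσ huniv (fst J J) * jElt f hσ huniv (snd J J) :=
    (jEquiv f hσ huniv (J ⊗ J)).apply_symm_apply _
  rw [Hom.mul_def, jElt_natural, hμ, map_mul, ← jElt_natural, ← jElt_natural, lift_fst, lift_snd]

/-- The points of the Jacobian are the degree zero classes. -/
def jMulEquiv (T : Over S) :
    letI := commGrpObj f hσ huniv
    (T ⟶ jac f hσ huniv) ≃* jSub f σ hσ T :=
  letI := commGrpObj f hσ huniv
  { jEquiv f hσ huniv T with map_mul' := jElt_mul f hσ huniv }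

open Classical in
/-- The map from degree zero classes to points. -/
def phi0 (T : Over S) (c : PicF.Cl (PicF.XT f T)) : T ⟶ jac f hσ huniv :=
  if h : AbDual.IsPicZeroCl f T c then
    jPt f hσ huniv ⟨_, H29Ell.norm_mem_jSub f σ hσ T h.choose_spec.2.1 (h.choose_spec.1.symm ▸ h)⟩
  else jPt f hσ huniv 1

theorem phi0_incl (T : Over S) (c : PicF.Cl (PicF.XT f T)) (h : AbDual.IsPicZeroCl f T c) :
    phi0 f hσ huniv T c ≫ incl f hσ huniv = phi f hσ huniv T c := by
  rw [phi0, dif_pos h, jPt_incl, phi_eq f hσ huniv T ⟨_, h.choose_spec.1, h.choose_spec.2.1⟩]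
  congr 1
  exact Subtype.ext (congrArg (H29Ell.norm f σ hσ T) (Units.ext h.choose_spec.1))

/-- The Jacobian represents the sheaf of degree zero classes. -/
theorem isRelPicZeroK : AbDual.IsRelPicZeroK Scheme.fppfPrecoverage f (jac f hσ huniv) (phi0 f hσ huniv) where
  natural T T' g c hc := incl_cancel f hσ huniv (by
    obtain ⟨L, hL, hLi, -⟩ := id hc
    rw [Category.assoc, phi0_incl f hσ huniv T c hc, phi0_incl f hσ huniv T' _ (H25Dual.picZero_XTmap g hc)]
    exact (isRelPicK f hσ huniv).natural T T' g c ⟨L, hL, hLi⟩)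
  locallySurjective T a := by
    refine ⟨Presieve.ofArrows (fun _ : PUnit.{u + 1} => T.left) (fun _ => 𝟙 T.left), ?_, ?_⟩
    · rw [Scheme.fppfPrecoverage, Scheme.ofArrows_mem_precoverage_iff]
      exact ⟨fun t => ⟨PUnit.unit, t, rfl⟩, fun _ => ⟨inferInstance, inferInstance⟩⟩
    · rintro _ _ ⟨⟩
      let v := jElt f hσ huniv (AbDual.ovrHom T (𝟙 T.left) ≫ a)
      refine ⟨(v.1.1 : PicF.Cl _), v.2.2, incl_cancel f hσ huniv ?_⟩
      rw [phi0_incl f hσ huniv _ _ v.2.2, phi_rig f hσ huniv _ ⟨v.1, v.2.1⟩, ← jPt_incl f hσ huniv v]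
      exact congrArg (· ≫ incl f hσ huniv)
        ((jEquiv f hσ huniv _).symm_apply_apply (AbDual.ovrHom T (𝟙 T.left) ≫ a))
  locallyInjective T c c' hc hc' h := by
    obtain ⟨L, hL, hLi, -⟩ := id hc
    obtain ⟨L', hL', hLi', -⟩ := id hc'
    refine (isRelPicK f hσ huniv).locallyInjective T c c' ⟨L, hL, hLi⟩ ⟨L', hL', hLi'⟩ ?_
    rw [← phi0_incl f hσ huniv T c hc, h, phi0_incl f hσ huniv T c' hc']

theorem locallyOfFinitePresentation_jac [LocallyOfFinitePresentation P.hom] :
    LocallyOfFinitePresentation (jac f hσ huniv).hom :=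
  inferInstanceAs (LocallyOfFinitePresentation ((zeroOpen f hσ huniv).ι ≫ P.hom))

end Groth.Agent.H29Jac
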