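import Groth.Agent.H25AbCube.Torsion
import Mathlib.RingTheory.Etale.Field
import Mathlib.FieldTheory.IsSepClosed

/-!
# Torsion points of abelian varieties over separably closed fields
-/

set_option autoImplicit false
set_option linter.style.haveILetI false
set_option linter.unusedSectionVars false
set_option backward.isDefEq.respectTransparency false

noncomputable section

universe u

open CategoryTheory CategoryTheory.Limits MonoidalCategory CartesianMonoidalCategory MonObj GrpObj AlgebraicGeometry

namespace Groth.Agent.H29Jac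

/-- Algebra maps from a finite étale algebra to a separably closed field are as many as its rank. -/
theorem card_algHom_etale (K B : Type u) [Field K] [IsSepClosed K] [CommRing B] [Algebra K B]
    [Algebra.Etale K B] : Nat.card (B →ₐ[K] K) = Module.finrank K B := by
  obtain ⟨I, hI, Ai, _, _, e, hAi⟩ := (Algebra.Etale.iff_exists_algEquiv_prod K B).1 inferInstance
  letI := Fintype.ofFinite I
  have hb : ∀ i, Function.Bijective (Algebra.ofId K (Ai i)) := fun i => by
    haveI := (hAi i).2
    exact ⟨(algebraMap K (Ai i)).injective, IsSepClosed.algebraMap_surjective K (Ai i)⟩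
  let a : ∀ i, Ai i ≃ₐ[K] K := fun i => (AlgEquiv.ofBijective _ (hb i)).symm
  let E : B ≃ₐ[K] (I → K) := e.trans (AlgEquiv.piCongrRight a)
  let ev : I → (B →ₐ[K] K) := fun i => (Pi.evalAlgHom K (fun _ => K) i).comp E.toAlgHom
  have hev : Function.Bijective ev := by
    classical
    refine ⟨fun i j hij => ?_, fun φ => ?_⟩
    · by_contra hne
      have := AlgHom.congr_fun hij (E.symm (Pi.single i (1 : K)))
      simp [ev, Pi.single_eq_of_ne (Ne.symm hne)] at this
    · let ψ : (I → K) →ₐ[K] K := φ.comp E.symm.toAlgHom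
      obtain ⟨i, hi⟩ : ∃ i, ψ (Pi.single i 1) ≠ 0 := by
        by_contra hall
        push Not at hall
        have h1 : ψ (∑ i, Pi.single i (1 : K)) = 0 := by rw [map_sum]; exact Finset.sum_eq_zero fun i _ => hall i
        rw [Finset.univ_sum_single (fun _ : I => (1 : K)), show (fun _ : I => (1 : K)) = 1 from rfl, map_one] at h1
        exact one_ne_zero h1
      have hid : ψ (Pi.single i 1) = 1 := by
        have : ψ (Pi.single i 1) * ψ (Pi.single i 1) = ψ (Pi.single i 1) := by
          rw [← map_mul, ← Pi.single_mul, _root_.one_mul]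
        exact (mul_eq_right₀ hi).1 this
      refine ⟨i, AlgHom.ext fun b => ?_⟩
      show E b i = φ b
      have key : ψ (E b) = E b i := by
        have h1 : E b * Pi.single i (1 : K) = (E b i) • Pi.single i (1 : K) := by
          ext j
          by_cases hj : j = i
          · subst hj; simp
          · simp [Pi.single_eq_of_ne hj]
        have := congrArg ψ h1
        rw [map_mul, map_smul, hid, _root_.mul_one, smul_eq_mul, _root_.mul_one] at this
        exact this
      rw [← key]
      exact congrArg φ (E.symm_apply_apply b)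
  rw [← Nat.card_congr (Equiv.ofBijective ev hev), E.toLinearEquiv.finrank_eq, Module.finrank_fintype_fun_eq_card,
    Nat.card_eq_fintype_card]

/-- Sections of a finite étale scheme over a separably closed field are as many as its degree. -/
theorem card_sections_etale {k : Type u} [Field k] [IsSepClosed k] {Z : Scheme.{u}} (q : Z ⟶ Spec (CommRingCat.of k))
    [IsFinite q] [Etale q] (x : Spec (CommRingCat.of k)) :
    Nat.card {σ : Spec (CommRingCat.of k) ⟶ Z // σ ≫ q = 𝟙 _} = q.finrank x := by
  haveI : IsAffine Z := isAffine_of_isAffineHom q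
  obtain ⟨φ, hφ⟩ := Spec.map_surjective (Z.isoSpec.inv ≫ q)
  letI : Algebra k Γ(Z, ⊤) := φ.hom.toAlgebra
  haveI hf : IsFinite (Spec.map φ) := by rw [hφ]; infer_instance
  haveI he : Etale (Spec.map φ) := by rw [hφ]; infer_instance
  haveI : Algebra.Etale k Γ(Z, ⊤) := RingHom.etale_algebraMap.1 ((HasRingHomProperty.Spec_iff (P := @Etale)).1 he)
  haveI : Module.Finite k Γ(Z, ⊤) := RingHom.finite_algebraMap.1 ((IsFinite.SpecMap_iff _).1 hf)
  have hq : q = Z.isoSpec.hom ≫ Spec.map (CommRingCat.ofHom (algebraMap k Γ(Z, ⊤))) := by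
    rw [show CommRingCat.ofHom (algebraMap k Γ(Z, ⊤)) = φ from rfl, hφ, Iso.hom_inv_id_assoc]
  haveI : IsFinite (Spec.map (CommRingCat.ofHom (algebraMap k Γ(Z, ⊤)))) := hf
  haveI : Flat (Spec.map (CommRingCat.ofHom (algebraMap k Γ(Z, ⊤)))) :=
    Flat.SpecMap_iff.2 (RingHom.flat_algebraMap_iff.2 inferInstance)
  have hr : q.finrank x = Module.finrank k Γ(Z, ⊤) := by
    rw [hq, Scheme.Hom.finrank_comp_left_of_isIso, Scheme.Hom.finrank_SpecMap_algebraMap,
      Module.rankAtStalk_eq_finrank_of_free]
    rfl
  rw [hr, ← card_algHom_etale k Γ(Z, ⊤)]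
  refine Nat.card_congr
    { toFun := fun σ =>
        { (Spec.preimage (σ.1 ≫ Z.isoSpec.hom)).hom with
          commutes' := fun c => ?_ }
      invFun := fun a => ⟨Spec.map (CommRingCat.ofHom a.toRingHom) ≫ Z.isoSpec.inv, ?_⟩
      left_inv := fun σ => Subtype.ext ?_
      right_inv := fun a => ?_ }
  · have h : φ ≫ Spec.preimage (σ.1 ≫ Z.isoSpec.hom) = 𝟙 _ := by
      refine Spec.map_injective ?_
      rw [Spec.map_comp, Spec.map_preimage, hφ, Category.assoc, Iso.hom_inv_id_assoc, σ.2, Spec.map_id]
    exact congrArg (fun r : CommRingCat.of k ⟶ CommRingCat.of k => r.hom c) h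
  · rw [Category.assoc, ← hφ, ← Spec.map_comp, ← Spec.map_id]
    congr 1
    exact CommRingCat.hom_ext (RingHom.ext fun c => a.commutes c)
  · show Spec.map (CommRingCat.ofHom (Spec.preimage (σ.1 ≫ Z.isoSpec.hom)).hom) ≫ Z.isoSpec.inv = σ.1
    rw [CommRingCat.ofHom_hom, Spec.map_preimage, Category.assoc, Iso.hom_inv_id, Category.comp_id]
  · apply AlgHom.ext
    intro b
    show (Spec.preimage ((Spec.map (CommRingCat.ofHom a.toRingHom) ≫ Z.isoSpec.inv) ≫ Z.isoSpec.hom)).hom b = a b
    rw [Category.assoc, Iso.inv_hom_id, Category.comp_id, Spec.preimage_map]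
    rfl

open Groth.Agent.H25AbCube in
/-- An abelian variety over a separably closed field has `n^(2g)` rational points killed by an invertible `n`. -/
theorem card_torsPts_sepClosed {k : Type u} [Field k] [IsSepClosed k] {A : Over (Spec (CommRingCat.of k))} [GrpObj A]
    [IsProper A.hom] [GeometricallyIntegral A.hom] [IsCommMonObj A] {n : ℕ} (hn : (n : k) ≠ 0) (g : ℕ)
    (hg : topologicalKrullDim A.left = g) :
    Nat.card ↥(AbDual.torsPts A n (Over.mk (𝟙 (Spec (CommRingCat.of k))))) = n ^ (2 * g) := by
  have hn' : 0 < n := Nat.pos_of_ne_zero fun h => hn (by rw [h, Nat.cast_zero])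
  haveI := isFinite_pow (A := A) hn'
  haveI := flat_pow (A := A) hn'
  haveI : Etale ((𝟙 A) ^ n : A ⟶ A).left := by
    have := H19Grp.etale_zpow_field' A (n : ℤ) (by rwa [Int.cast_natCast])
    rwa [zpow_natCast] at this
  let q := pullback.snd ((𝟙 A) ^ n : A ⟶ A).left (η[A]).left
  haveI : IsFinite q := MorphismProperty.pullback_snd _ _ inferInstance
  haveI : Etale q := MorphismProperty.pullback_snd _ _ inferInstance
  haveI : IsLocallyNoetherian A.left := LocallyOfFiniteType.isLocallyNoetherian A.hom
  have hr : q.finrank (IsLocalRing.closedPoint k) = n ^ (2 * g) := by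
    rw [Scheme.Hom.finrank_of_isPullback _ _ _ _
      (IsPullback.of_hasPullback ((𝟙 A) ^ n : A ⟶ A).left (η[A]).left) _]
    exact finrank_pow hn' g hg _
  rw [← hr, ← card_sections_etale q]
  refine Nat.card_congr
    { toFun := fun a => ⟨pullback.lift a.1.left (𝟙 _) ?_, pullback.lift_snd _ _ _⟩
      invFun := fun p => ⟨Over.homMk (p.1 ≫ pullback.fst _ _) ?_, ?_⟩
      left_inv := fun a => Subtype.ext (Over.OverMorphism.ext (pullback.lift_fst _ _ _))
      right_inv := fun p => Subtype.ext ?_ }
  · rw [← Over.comp_left, comp_pow_id, show (a.1 : _ ⟶ A) ^ n = 1 from a.2]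
    exact H19Grp.one_left _
  · show (p.1 ≫ pullback.fst _ _) ≫ A.hom = 𝟙 _
    rw [Category.assoc, ← Over.w ((𝟙 A) ^ n : A ⟶ A), reassoc_of% (pullback.condition
      (f := ((𝟙 A) ^ n : A ⟶ A).left) (g := (η[A]).left)), Over.w η[A]]
    exact (congrArg (p.1 ≫ ·) (Category.comp_id _)).trans p.2
  · refine (AbDual.mem_torsPts A _).2 ?_
    rw [← comp_pow_id]
    refine Over.OverMorphism.ext (Eq.trans ?_ (H19Grp.one_left _).symm)
    show (p.1 ≫ pullback.fst _ _) ≫ ((𝟙 A) ^ n : A ⟶ A).left = 𝟙 _ ≫ (η[A]).left
    rw [Category.assoc, pullback.condition, ← Category.assoc, p.2]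
    rfl
  · apply pullback.hom_ext
    · exact pullback.lift_fst _ _ _
    · exact (pullback.lift_snd _ _ _).trans p.2.symm

end Groth.Agent.H29Jac
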