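import Groth.Agent.H29Jac.PicZero
import Groth.Agent.H12Pic.PicCurve.Representable
import Groth.Agent.H12Pic.PicCurve.AbelSurj
import Groth.Agent.H12Pic.PicCurve.PicZeroDim
import Groth.Agent.H25AbCube.TorsionStr
import Groth.Agent.H29Jac.SepTors
import Groth.Agent.S1550
import Groth.Agent.H22Alg.CurveAmple
import Groth.Agent.H10Coh.Growth.Field
import Groth.Agent.H28NT.GoodReduction
import Groth.Prelude.Def_Curve

/-!
# The Jacobian of a curve over a separably closed field and the torsion of its Picard group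
-/

set_option autoImplicit false
set_option linter.style.haveILetI false
set_option linter.unusedSectionVars false
set_option maxHeartbeats 1200000
set_option backward.isDefEq.respectTransparency.types false

noncomputable section

universe u

open CategoryTheory CategoryTheory.Limits AlgebraicGeometry Opposite MonoidalCategory CartesianMonoidalCategory MonObj

namespace Groth.Agent.H29Jac

open Groth.Agent.H17.PullCl Groth.Agent.H12Pic.RigPoints Groth.Agent.H12Pic.PicCurve
open Groth.Agent.H25Theta (Cls cls pull pullU unitCls pb pT pC pI tI pO)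
open Groth.Agent.H29Ell (jSub)

attribute [local instance] fibreOverField

variable (k : Type u) [Field k] [IsSepClosed k] {X : Scheme.{u}} (f : X ⟶ Spec (CommRingCat.of k))

/-- The point. -/
abbrev ptObj : Over (Spec (CommRingCat.of k)) := Over.mk (𝟙 (Spec (CommRingCat.of k)))

instance : Subsingleton ↥(Spec (CommRingCat.of k)) := inferInstanceAs (Subsingleton (PrimeSpectrum k))
instance : Nonempty ↥(Spec (CommRingCat.of k)) := inferInstanceAs (Nonempty (PrimeSpectrum k))

instance isIso_fst_point : IsIso (pullback.fst f (ptObj k).hom) :=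
  inferInstanceAs (IsIso (pullback.fst f (𝟙 (Spec (CommRingCat.of k)))))

/-- A curve over a separably closed field has a rational point. -/
theorem exists_section (hX : Curve.IsSmoothProperCurve k X f) :
    ∃ σ : Spec (CommRingCat.of k) ⟶ X, σ ≫ f = 𝟙 _ := by
  obtain ⟨hp, hs, hi, -⟩ := hX
  letI : X.Over (Spec (CommRingCat.of k)) := ⟨f⟩
  haveI : Smooth (X ↘ Spec (CommRingCat.of k)) := hs
  obtain ⟨x, -, hfin, hsep⟩ := (Groth.Agent.S1550.result k X).nonempty
  haveI := hsep
  have hb : Function.Bijective (Curv2.resMap k X x) :=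
    ⟨(Curv2.resMap k X x).injective, letI := Curv2.resAlgebra k X x; IsSepClosed.algebraMap_surjective k (X.residueField x)⟩
  let e : k ≃+* X.residueField x := RingEquiv.ofBijective _ hb
  refine ⟨Spec.map (CommRingCat.ofHom e.symm.toRingHom) ≫ X.fromSpecResidueField x, ?_⟩
  rw [Category.assoc, show X.fromSpecResidueField x ≫ f = Spec.map (CommRingCat.ofHom (Curv2.resMap k X x))
      from H22Alg.VarDim.fromSpecResidueField_over k X x, ← Spec.map_comp, ← Spec.map_id]
  congr 1
  exact CommRingCat.hom_ext (RingHom.ext fun c => e.symm_apply_apply c)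

variable [IsProper f] [SmoothOfRelativeDimension 1 f] [GeometricallyConnected f]
  {σ : Spec (CommRingCat.of k) ⟶ X} (hσ : σ ≫ f = 𝟙 _)

/-- A class on the trivial family killed by a positive power has degree zero. -/
theorem isPicZeroCl_of_pow {L : (PicF.XT f (ptObj k)).Modules} (hL : PicF.IsInvertible L) {n : ℕ} (hn : 0 < n)
    (h : (cls L) ^ n = 1) : AbDual.IsPicZeroCl f (ptObj k) (PicF.cl L) := by
  obtain ⟨_, _, _⟩ := family_facts f (ptObj k)
  let Y := PicF.XT f (ptObj k)
  letI : Y.Over (Spec (CommRingCat.of k)) := ⟨PicF.XTproj f (ptObj k)⟩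
  haveI : IsProper (Y ↘ Spec (CommRingCat.of k)) := ‹IsProper (PicF.XTproj f (ptObj k))›
  haveI : SmoothOfRelativeDimension 1 (Y ↘ Spec (CommRingCat.of k)) :=
    ‹SmoothOfRelativeDimension 1 (PicF.XTproj f (ptObj k))›
  haveI : GeometricallyConnected (Y ↘ Spec (CommRingCat.of k)) :=
    ‹GeometricallyConnected (PicF.XTproj f (ptObj k))›
  obtain ⟨hint, hdim⟩ := curve_facts k Y
  haveI := hint
  have hle : topologicalKrullDim Y ≤ 1 := hdim.le
  refine (isPicZeroCl_iff_degAt f (ptObj k) hL).2 fun t => ?_
  have hrk : ∀ {F : Y.Modules}, PicF.IsInvertible F →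
      rankDiff (PicF.XTproj f (ptObj k)) F t = Curv2.euler k Y F := fun {F} hF => by
    rw [rankDiff, H29RR.euler_eq_sub (k := k) hle]
    exact congrArg₂ (fun a b : ℕ => (a : ℤ) - b)
      (H10Coh.Growth.fiberRank_field (k := k) (X := Y) (H11Ample.isCoh_of_isInvertible hF) 0 t)
      (H10Coh.Growth.fiberRank_field (k := k) (X := Y) (H11Ample.isCoh_of_isInvertible hF) 1 t)
  have hd : degAt f (ptObj k) L t = Curv2.deg k Y L 1 := by
    rw [degAt, hrk hL, hrk H11Ample.isInvertible_structureModule, H29RR.deg_def]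
  obtain ⟨e⟩ := H25Theta.cls_eq.1 (show cls (CohB1.tensorPow L n) = cls (Coh.structureModule Y) by
    rw [H25Theta.cls_pow]; exact h)
  have h0 := H22Alg.CurveAmple.deg_tensorPow (k := k) hle hL n
  rw [H29RR.deg_congr (k := k) e, H29RR.deg_structureModule] at h0
  rw [hd]
  rcases mul_eq_zero.1 h0.symm with h1 | h1
  · omega
  · exact h1

include hσ in
/-- The classes on the curve killed by `n` are the elements of the group of degree zero classes killed by `n`. -/
theorem card_pic_torsion_eq (n : ℕ) (hn : 0 < n) :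
    Nat.card {c : PicF.Cl X | ∃ M : Scheme.Modules X, PicF.cl M = c ∧ PicF.IsInvertible M ∧
        Nonempty (CohB1.tensorPow M n ≅ Coh.structureModule X)} =
      Nat.card {u : jSub f σ hσ (ptObj k) // u ^ n = 1} := by
  let q := pullback.fst f (ptObj k).hom
  have hpow : ∀ {Z : Scheme.{u}} {M : Z.Modules}, Nonempty (CohB1.tensorPow M n ≅ Coh.structureModule Z) ↔
      (cls M) ^ n = 1 := fun {Z M} => by
    rw [← H25Theta.cls_pow, ← H25Theta.cls_structureModule, H25Theta.cls_eq]
  have htriv : ∀ (u : (Cls (PicF.XT f (ptObj k)))ˣ), PicF.IsInvertibleCl (u.1 : PicF.Cl (PicF.XT f (ptObj k))) →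
      pull (PicF.secT f σ hσ (ptObj k)) u.1 = 1 := by
    rintro u ⟨L, hL, hLi⟩
    rw [show u.1 = cls L from hL.symm]
    haveI : Subsingleton ↥(ptObj k).left := inferInstanceAs (Subsingleton (PrimeSpectrum k))
    haveI : Nonempty ↥(ptObj k).left := inferInstanceAs (Nonempty (PrimeSpectrum k))
    exact Quot.sound (H25Theta.nonempty_iso_of_subsingleton
      (H11Ample.isInvertible_pullback (PicF.secT f σ hσ (ptObj k)) hLi))
  let toJ : {c : PicF.Cl X | ∃ M : Scheme.Modules X, PicF.cl M = c ∧ PicF.IsInvertible M ∧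
      Nonempty (CohB1.tensorPow M n ≅ Coh.structureModule X)} → {u : jSub f σ hσ (ptObj k) // u ^ n = 1} :=
    fun c =>
      ⟨⟨pullU q (unitOf (c := c.1) (by obtain ⟨M, hM, hMi, -⟩ := c.2; exact ⟨M, hM, hMi⟩)), by
          obtain ⟨M, hM, hMi, hMn⟩ := c.2
          have hL := H11Ample.isInvertible_pullback q hMi
          have he : cls ((Scheme.Modules.pullback q).obj M) = pull q (c.1 : Cls X) := by
            rw [show (c.1 : Cls X) = cls M from hM.symm]; rfl
          have h0 := isPicZeroCl_of_pow k f hL hn (by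
            rw [he, ← map_pow, show (c.1 : Cls X) = cls M from hM.symm, hpow.1 hMn, map_one])
          refine ⟨⟨⟨_, he, hL⟩, htriv _ ⟨_, he, hL⟩⟩, ?_⟩
          rw [show PicF.cl ((Scheme.Modules.pullback q).obj M) = pull q (c.1 : Cls X) from he] at h0
          exact h0⟩, by
        obtain ⟨M, hM, hMi, hMn⟩ := c.2
        refine Subtype.ext (Units.ext ?_)
        show (pull q (c.1 : Cls X)) ^ n = 1
        rw [← map_pow, show (c.1 : Cls X) = cls M from hM.symm, hpow.1 hMn, map_one]⟩
  refine Nat.card_eq_of_bijective toJ ⟨fun c d h => ?_, fun u => ?_⟩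
  · have h' : pull q (c.1 : Cls X) = pull q (d.1 : Cls X) := congrArg (fun w => w.1.1.1) h
    have h'' := congrArg (pull (inv q)) h'
    rw [H25Theta.pull_pull, H25Theta.pull_pull, IsIso.inv_hom_id, H25Theta.pull_id, H25Theta.pull_id] at h''
    exact Subtype.ext h''
  · obtain ⟨L, hL, hLi⟩ := id u.1.2.1.1
    let M := (Scheme.Modules.pullback (inv q)).obj L
    have hM : cls M = pull (inv q) u.1.1.1 := by rw [show u.1.1.1 = cls L from hL.symm]; rfl
    refine ⟨⟨PicF.cl M, M, rfl, H11Ample.isInvertible_pullback _ hLi, hpow.2 ?_⟩, ?_⟩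
    · rw [hM, ← map_pow]
      have h1 : u.1.1.1 ^ n = 1 := congrArg (fun w => w.1.1) u.2
      rw [h1, map_one]
    · refine Subtype.ext (Subtype.ext (Units.ext ?_))
      show pull q (cls M) = u.1.1.1
      rw [hM, H25Theta.pull_pull, IsIso.hom_inv_id, H25Theta.pull_id]

/-- A curve over a separably closed field has a Jacobian: an abelian variety of dimension the genus whose
points are the classes of degree zero. -/
theorem exists_jacobian [X.Over (Spec (CommRingCat.of k))]
    (hX : Curve.IsSmoothProperCurve k X (X ↘ Spec (CommRingCat.of k))) :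
    ∃ (A : Over (Spec (CommRingCat.of k))) (_ : GrpObj A) (_ : IsCommMonObj A),
      IsProper A.hom ∧ Smooth A.hom ∧ GeometricallyIntegral A.hom ∧
      topologicalKrullDim A.left = (Curv2.genus k X : WithBot ℕ∞) ∧
      ∀ n : ℕ, 0 < n →
        Nat.card {c : PicF.Cl X | ∃ M : Scheme.Modules X, PicF.cl M = c ∧ PicF.IsInvertible M ∧
          Nonempty (CohB1.tensorPow M n ≅ Coh.structureModule X)} =
        Nat.card ↥(AbDual.torsPts A n (ptObj k)) := by
  let f := X ↘ Spec (CommRingCat.of k)
  obtain ⟨hp, hs, hint, hdim⟩ := id hX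
  haveI := hp; haveI := hs; haveI := hint
  haveI : SmoothOfRelativeDimension 1 f := smoothRelDim_curve hX
  obtain ⟨σ, hσ⟩ := exists_section k f hX
  haveI : GeometricallyConnected f := H28NT.geometricallyConnected_of_section f σ hσ
  obtain ⟨P, ξ, huniv, hlfp⟩ := rigRepresentable_curve_lfp hX hσ
  haveI := hlfp
  haveI hlfp0 := locallyOfFinitePresentation_jac f hσ huniv
  letI := commGrpObj f hσ huniv
  let A := jac f hσ huniv
  have hdimf : ∀ s, topologicalKrullDim ↥(f.fiber s) = topologicalKrullDim X := fun s =>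
    ((f.fiberHomeo s).trans ((Homeomorph.setCongr (Set.eq_univ_of_forall
      fun x => Subsingleton.elim (f x) s)).trans (Homeomorph.Set.univ _))).isHomeomorph.topologicalKrullDim_eq
  haveI : GeometricallyIntegral f := geometricallyIntegral_curve f
  haveI : Smooth P.hom := SmoothPic.smooth_pic f (fun s => by rw [hdimf s, hdim]) P _ (isRelPicK f hσ huniv)
  haveI : IsSeparated P.hom := H12Pic.Sep.isSeparated f (isRelPicK f hσ huniv)
  obtain ⟨hjo, hjc⟩ := picZero_openClosed f P _ (isRelPicK f hσ huniv) A _ (isRelPicZeroK f hσ huniv)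
    (incl f hσ huniv) (fun T c hc => phi0_incl f hσ huniv T c hc)
  haveI := hjo; haveI := hjc
  haveI hAs : Smooth A.hom := by rw [← Over.w (incl f hσ huniv)]; infer_instance
  haveI : IsSeparated A.hom := by rw [← Over.w (incl f hσ huniv)]; infer_instance
  haveI : LocallyOfFiniteType A.hom := inferInstance
  obtain ⟨hAp, hAc⟩ := picZero_proper_connected f A _ (isRelPicZeroK f hσ huniv)
  haveI := hAp; haveI := hAc
  haveI hAi : GeometricallyIntegral A.hom := H25AbCube.geometricallyIntegral_of_smooth A
  refine ⟨A, inferInstance, inferInstance, hAp, hAs, hAi, ?_, fun n hn => ?_⟩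
  · have h := picZero_fiber_dim f A _ (isRelPicZeroK f hσ huniv) (IsLocalRing.closedPoint k)
    rw [H10Coh.Growth.fiberRank_field (k := k) (X := X) (H10Coh.isCoh_structureModule' X)] at h
    refine Eq.trans ?_ h
    exact (((A.hom.fiberHomeo _).trans ((Homeomorph.setCongr (Set.eq_univ_of_forall
      fun x => Subsingleton.elim (A.hom x) _)).trans (Homeomorph.Set.univ _))).isHomeomorph.topologicalKrullDim_eq).symm
  · rw [card_pic_torsion_eq k f hσ n hn]
    refine (Nat.card_congr ((jMulEquiv f hσ huniv (ptObj k)).toEquiv.subtypeEquiv fun a => ?_)).symm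
    show a ^ n = 1 ↔ (jMulEquiv f hσ huniv (ptObj k) a) ^ n = 1
    rw [← map_pow, MulEquiv.map_eq_one_iff]

/-- The count of `n`-torsion of the Picard group of a curve. -/
theorem card_pic_torsion [X.Over (Spec (CommRingCat.of k))]
    (hX : Curve.IsSmoothProperCurve k X (X ↘ Spec (CommRingCat.of k))) {n : ℕ} (hnk : (n : k) ≠ 0) :
    Nat.card {c : PicF.Cl X | ∃ M : Scheme.Modules X, PicF.cl M = c ∧ PicF.IsInvertible M ∧
        Nonempty (CohB1.tensorPow M n ≅ Coh.structureModule X)} = n ^ (2 * Curv2.genus k X) := by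
  obtain ⟨A, _, _, hp, hs, hi, hd, hn⟩ := exists_jacobian k hX
  haveI := hp; haveI := hi
  rw [hn n (Nat.pos_of_ne_zero fun h => hnk (by rw [h, Nat.cast_zero]))]
  exact card_torsPts_sepClosed hnk _ hd

end Groth.Agent.H29Jac
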