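import Groth.Agent.H29Jac.Jacobian
import Groth.Agent.H12Pic.GaloisDescent
import Groth.Agent.H29DoubleCover.Hyperelliptic
import Groth.Agent.H29DoubleCover.Unique
import Groth.Agent.H12Pic.PicCurve.RelDimFibres
import Mathlib.FieldTheory.Galois.Infinite
import Mathlib.FieldTheory.IsSepClosed

/-!
# Finite separable extensions with full torsion of the Picard group of a curve
-/

set_option autoImplicit false
set_option linter.style.haveILetI false
set_option linter.unusedSectionVars false
set_option maxHeartbeats 1200000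
set_option backward.isDefEq.respectTransparency.types false

noncomputable section

universe u

open CategoryTheory CategoryTheory.Limits AlgebraicGeometry Opposite

namespace Groth.Agent.H29Jac

open Groth.Agent.H17.PullCl Groth.Agent.H12Pic Groth.Agent.H13AlgSp
open Groth.Agent.H25Theta (Cls cls pull)

/-- The classes of invertible modules killed by `n`. -/
abbrev torSet (Y : Scheme.{u}) (n : ℕ) : Set (PicF.Cl Y) :=
  {c | ∃ M : Scheme.Modules Y, PicF.cl M = c ∧ PicF.IsInvertible M ∧
    Nonempty (CohB1.tensorPow M n ≅ Coh.structureModule Y)}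

/-- A class as an element of the monoid of classes. -/
abbrev toCls {Y : Scheme.{u}} (c : PicF.Cl Y) : Cls Y := c

theorem mem_torSet {Y : Scheme.{u}} {n : ℕ} {c : PicF.Cl Y} :
    c ∈ torSet Y n ↔ PicF.IsInvertibleCl c ∧ toCls c ^ n = 1 := by
  constructor
  · rintro ⟨M, rfl, hM, h⟩
    exact ⟨⟨M, rfl, hM⟩, show cls M ^ n = 1 by rw [← H25Theta.cls_pow]; exact H25Theta.cls_eq.2 h⟩
  · rintro ⟨⟨M, rfl, hM⟩, h⟩
    refine ⟨M, rfl, hM, H25Theta.cls_eq.1 ?_⟩
    rw [H25Theta.cls_pow]
    exact h

theorem pullCl_mem_torSet {Y Y' : Scheme.{u}} (q : Y' ⟶ Y) {n : ℕ} {c : PicF.Cl Y} (h : c ∈ torSet Y n) :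
    PicF.pullCl q c ∈ torSet Y' n := by
  rw [mem_torSet] at h ⊢
  exact ⟨isInvertibleCl_pullCl q h.1, show (pull q (toCls c)) ^ n = 1 by rw [← map_pow, h.2, map_one]⟩

variable {k : Type u} [Field k] {X : Scheme.{u}} (f : X ⟶ Spec (CommRingCat.of k)) (n : ℕ)

/-- The pullback of torsion classes along a map of extensions. -/
def torMap {E K : Type u} [Field E] [Field K] [Algebra k E] [Algebra k K] (a : E →ₐ[k] K)
    (c : torSet (PicF.XT f (extObj k E)) n) : torSet (PicF.XT f (extObj k K)) n :=
  ⟨PicF.pullCl (PicF.XTmap f (extHom a)) c.1, pullCl_mem_torSet _ c.2⟩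

theorem torMap_comp {E K K' : Type u} [Field E] [Field K] [Field K'] [Algebra k E] [Algebra k K] [Algebra k K']
    (a : E →ₐ[k] K) (b : K →ₐ[k] K') (c : torSet (PicF.XT f (extObj k E)) n) :
    torMap f n b (torMap f n a c) = torMap f n (b.comp a) c := Subtype.ext (by
  show PicF.pullCl _ (PicF.pullCl _ c.1) = PicF.pullCl _ c.1
  rw [← pullCl_comp, ← Sep.XTmap_comp, extHom_comp])

theorem torMap_id {E : Type u} [Field E] [Algebra k E] (c : torSet (PicF.XT f (extObj k E)) n) :
    torMap f n (AlgHom.id k E) c = c := Subtype.ext (by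
  show PicF.pullCl _ c.1 = c.1
  rw [show extHom (AlgHom.id k E) = 𝟙 (extObj k E) from Over.OverMorphism.ext (by
    show Spec.map _ = 𝟙 _
    rw [← Spec.map_id]; rfl), H27HilbOps.XTmap_id]
  exact pullCl_id c.1)

theorem torMap_injective [CompactSpace X] [QuasiSeparatedSpace X] (h : IsIso f.appTop)
    {E K : Type u} [Field E] [Field K] [Algebra k E] [Algebra k K] (a : E →ₐ[k] K) :
    Function.Injective (torMap f n a) := fun c d e => Subtype.ext
  (pullCl_extHom_injective f h a (mem_torSet.1 c.2).1 (mem_torSet.1 d.2).1 (congrArg Subtype.val e))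

/-- Over a finitely generated subextension all torsion classes appear as soon as they are finitely many. -/
theorem exists_stage [CompactSpace X] [QuasiSeparatedSpace X] (h : IsIso f.appTop) (K : Type u) [Field K]
    [Algebra k K] [Finite (torSet (PicF.XT f (extObj k K)) n)] :
    ∃ s : Finset K, ∀ L : IntermediateField k K, (↑s : Set K) ⊆ L →
      Function.Bijective (torMap f n L.val) := by
  classical
  have hex : ∀ c : torSet (PicF.XT f (extObj k K)) n, ∃ (s : Finset K)
      (d : torSet (PicF.XT f (extObj k (IntermediateField.adjoin k (s : Set K)))) n),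
      torMap f n (IntermediateField.adjoin k (s : Set K)).val d = c := by
    intro c
    obtain ⟨s, d, hd, hdc⟩ := exists_subfield_stage f K (mem_torSet.1 c.2).1
    refine ⟨s, ⟨d, mem_torSet.2 ⟨hd, ?_⟩⟩, Subtype.ext hdc⟩
    obtain ⟨L, hL, hLi⟩ := id hd
    have h1 : PicF.IsInvertibleCl (toCls d ^ n : PicF.Cl _) := by
      refine ⟨CohB1.tensorPow L n, ?_, H11Ample.isInvertible_tensorPow hLi n⟩
      show cls _ = toCls d ^ n
      rw [H25Theta.cls_pow, show cls L = toCls d from hL]
    refine pullCl_extHom_injective f h (IntermediateField.adjoin k (s : Set K)).val h1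
      ⟨_, rfl, H11Ample.isInvertible_structureModule⟩ ?_
    show pull _ (toCls d ^ n) = pull _ 1
    rw [map_pow, map_one]
    show toCls (PicF.pullCl (PicF.XTmap f (extHom (IntermediateField.adjoin k (s : Set K)).val)) d) ^ n = 1
    rw [hdc]
    exact (mem_torSet.1 c.2).2
  choose s d hd using hex
  haveI := Fintype.ofFinite (torSet (PicF.XT f (extObj k K)) n)
  refine ⟨Finset.univ.biUnion s, fun L hL => ⟨torMap_injective f n h L.val, fun c => ?_⟩⟩
  have hle : IntermediateField.adjoin k (s c : Set K) ≤ L :=
    IntermediateField.adjoin_le_iff.2 ((Finset.coe_subset.2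
      (Finset.subset_biUnion_of_mem s (Finset.mem_univ c))).trans hL)
  refine ⟨torMap f n (IntermediateField.inclusion hle) (d c), ?_⟩
  rw [torMap_comp]
  exact hd c

section Curve

variable [X.Over (Spec (CommRingCat.of k))] [IsIntegral X] [IsProper (X ↘ Spec (CommRingCat.of k))]
  [Smooth (X ↘ Spec (CommRingCat.of k))]

theorem isIso_appTop_of_h0 (h0 : Module.finrank k (Coh.HH X (Coh.structureModule X) 0) = 1) :
    IsIso (X ↘ Spec (CommRingCat.of k)).appTop :=
  LeadBC.GenBC.isIso_appTop_of_hRank _ h0

/-- The base change of a curve with constant global functions is a curve. -/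
theorem isSmoothProperCurve_bc (hdim : topologicalKrullDim X = 1)
    (h0 : Module.finrank k (Coh.HH X (Coh.structureModule X) 0) = 1) (K : Type u) [Field K] [Algebra k K] :
    Curve.IsSmoothProperCurve K (Curv2.bc k X K) (Curv2.bcSnd k X K) := by
  let f := X ↘ Spec (CommRingCat.of k)
  haveI : GeometricallyConnected f := H29DoubleCover.geometricallyConnected_of_h0 h0
  have hsq : IsPullback (Curv2.bcFst k X K) (Curv2.bcSnd k X K) f _ := IsPullback.of_hasPullback _ _
  letI : (Curv2.bc k X K).Over (Spec (CommRingCat.of K)) := ⟨Curv2.bcSnd k X K⟩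
  haveI : IsProper (Curv2.bc k X K ↘ Spec (CommRingCat.of K)) := MorphismProperty.of_isPullback hsq inferInstance
  haveI : Smooth (Curv2.bc k X K ↘ Spec (CommRingCat.of K)) := MorphismProperty.of_isPullback hsq inferInstance
  haveI : GeometricallyConnected (Curv2.bc k X K ↘ Spec (CommRingCat.of K)) :=
    MorphismProperty.of_isPullback hsq inferInstance
  haveI hint := H29RR.isIntegral_of_geomConnected K (Curv2.bc k X K)
  haveI := smoothOfRelativeDimension_isStableUnderBaseChange.{u} (n := 1)
  haveI : SmoothOfRelativeDimension 1 f := H27CurveDiv.smoothOfRelativeDimension_of_dim f 1 (by exact_mod_cast hdim)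
  haveI : SmoothOfRelativeDimension 1 (Curv2.bc k X K ↘ Spec (CommRingCat.of K)) :=
    MorphismProperty.of_isPullback hsq inferInstance
  refine ⟨‹IsProper (Curv2.bc k X K ↘ Spec (CommRingCat.of K))›,
    ‹Smooth (Curv2.bc k X K ↘ Spec (CommRingCat.of K))›, hint, ?_⟩
  rw [← H8Props.FieldDim.localDim_eq_dim_of_irreducible (Curv2.bc k X K ↘ Spec (CommRingCat.of K)) (genericPoint _),
    H8Props.FieldDim.localDim_eq_of_smooth (Curv2.bc k X K ↘ Spec (CommRingCat.of K)) 1, Nat.cast_one]

/-- Over a separably closed extension there are `n^(2g)` torsion classes. -/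
theorem card_torSet_sepClosed (hdim : topologicalKrullDim X = 1)
    (h0 : Module.finrank k (Coh.HH X (Coh.structureModule X) 0) = 1) (K : Type u) [Field K] [Algebra k K]
    [IsSepClosed K] (hn : IsUnit (n : k)) :
    Nat.card (torSet (PicF.XT (X ↘ Spec (CommRingCat.of k)) (extObj k K)) n) = n ^ (2 * Curv2.genus k X) := by
  letI : (Curv2.bc k X K).Over (Spec (CommRingCat.of K)) := ⟨Curv2.bcSnd k X K⟩
  have hc := isSmoothProperCurve_bc hdim h0 K
  have hnK : (n : K) ≠ 0 := by
    rw [← map_natCast (algebraMap k K)]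
    exact (hn.map (algebraMap k K)).ne_zero
  refine (card_pic_torsion K (X := Curv2.bc k X K) hc hnK).trans ?_
  rw [H29DoubleCover.genus_bc (X ↘ Spec (CommRingCat.of k)) (Curv2.bcSnd k X K) (Curv2.bcFst k X K)
    (IsPullback.of_hasPullback _ _)]
  rfl

/-- There is a finite Galois extension containing given finitely many separable elements over which the
torsion classes are as many as over a separably closed field. -/
theorem exists_galois_full_torsion (hdim : topologicalKrullDim X = 1)
    (h0 : Module.finrank k (Coh.HH X (Coh.structureModule X) 0) = 1) (hn : IsUnit (n : k))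
    (s₀ : Finset (SeparableClosure k)) :
    ∃ L : IntermediateField k (SeparableClosure k), FiniteDimensional k L ∧ IsGalois k L ∧
      (↑s₀ : Set (SeparableClosure k)) ⊆ L ∧
      Nat.card (torSet (PicF.XT (X ↘ Spec (CommRingCat.of k)) (extObj k L)) n) = n ^ (2 * Curv2.genus k X) := by
  classical
  let f := X ↘ Spec (CommRingCat.of k)
  haveI := H29RR.isNoetherian_of_proper (k := k) (X := X)
  haveI : QuasiSeparatedSpace X := quasiSeparatedSpace_of_quasiSeparated f
  have hcard := card_torSet_sepClosed n hdim h0 (SeparableClosure k) hn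
  haveI : Finite (torSet (PicF.XT f (extObj k (SeparableClosure k))) n) := by
    refine Nat.finite_of_card_ne_zero ?_
    rw [hcard]
    exact pow_ne_zero _ fun h => hn.ne_zero (by rw [h, Nat.cast_zero])
  obtain ⟨s, hs⟩ := exists_stage f n (isIso_appTop_of_h0 h0) (SeparableClosure k)
  let N := FiniteGaloisIntermediateField.adjoin k ((s ∪ s₀ : Finset (SeparableClosure k)) : Set (SeparableClosure k))
  have hsub := FiniteGaloisIntermediateField.subset_adjoin k ((s ∪ s₀ : Finset (SeparableClosure k)) : Set (SeparableClosure k))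
  refine ⟨N.toIntermediateField, N.finiteDimensional, N.isGalois, fun x hx => hsub (Finset.mem_union_right _ hx), ?_⟩
  rw [← hcard]
  exact Nat.card_eq_of_bijective _ (hs N.toIntermediateField fun x hx => hsub (Finset.mem_union_left _ hx))

/-- A separable closed point becomes rational over any subextension of the separable closure containing its
residue field. -/
theorem exists_point_of_algHom (x : X) (L : Type u) [Field L] [Algebra k L]
    (a : letI := Curv2.resAlgebra k X x; X.residueField x →ₐ[k] L) :
    ∃ y : Spec (CommRingCat.of L) ⟶ Curv2.bc k X L, y ≫ Curv2.bcSnd k X L = 𝟙 _ := by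
  letI := Curv2.resAlgebra k X x
  refine ⟨pullback.lift (Spec.map (CommRingCat.ofHom a.toRingHom) ≫ X.fromSpecResidueField x) (𝟙 _) ?_,
    pullback.lift_snd _ _ _⟩
  rw [Category.assoc, H22Alg.VarDim.fromSpecResidueField_over k X x, ← Spec.map_comp, Category.id_comp]
  congr 1
  exact CommRingCat.hom_ext a.comp_algebraMap

end Curve

end Groth.Agent.H29Jac
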