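import Groth.Agent.H29Jac.Descent
import Groth.Agent.H29Jac.SepPoint.Main
import Groth.Agent.H12Pic.GaloisDescent
import Mathlib.FieldTheory.Galois.Basic
import Mathlib.GroupTheory.Index

/-!
# A separable extension of bounded degree with a rational point and full torsion of the Picard group
-/

set_option autoImplicit false
set_option linter.style.haveILetI false
set_option linter.unusedSectionVars false
set_option maxHeartbeats 1200000
set_option backward.isDefEq.respectTransparency.types false

noncomputable section

universe u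

open CategoryTheory CategoryTheory.Limits AlgebraicGeometry Opposite

namespace Groth.Agent.H29Jac

open Groth.Agent.H17.PullCl Groth.Agent.H12Pic Groth.Agent.H13AlgSp

section Action

variable {k : Type u} [Field k] {X : Scheme.{u}} (f : X ⟶ Spec (CommRingCat.of k)) (n : ℕ)

/-- The action of field automorphisms on torsion classes. -/
def torPerm (L : Type u) [Field L] [Algebra k L] :
    (L ≃ₐ[k] L) →* Equiv.Perm (torSet (PicF.XT f (extObj k L)) n) where
  toFun σ :=
    { toFun := torMap f n σ.toAlgHom
      invFun := torMap f n σ.symm.toAlgHom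
      left_inv := fun c => by
        rw [torMap_comp]
        refine (congrArg (fun a => torMap f n a c) ?_).trans (torMap_id f n c)
        exact AlgHom.ext σ.symm_apply_apply
      right_inv := fun c => by
        rw [torMap_comp]
        refine (congrArg (fun a => torMap f n a c) ?_).trans (torMap_id f n c)
        exact AlgHom.ext σ.apply_symm_apply }
  map_one' := Equiv.ext fun c => torMap_id f n c
  map_mul' σ τ := Equiv.ext fun c => by
    show torMap f n (σ * τ).toAlgHom c = torMap f n σ.toAlgHom (torMap f n τ.toAlgHom c)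
    rw [torMap_comp]
    rfl

/-- Torsion classes fixed by the Galois group of `L/E` descend to `E`. -/
theorem torMap_surjective_of_fixed [CompactSpace X] [QuasiSeparatedSpace X] (h : IsIso f.appTop)
    (L : Type u) [Field L] [Algebra k L] (E : IntermediateField k L) [IsGalois E L]
    (h' : IsIso (pullback.snd f (extObj k E).hom).appTop)
    (x : Spec (CommRingCat.of E) ⟶ pullback f (extObj k E).hom) (hx : x ≫ pullback.snd f (extObj k E).hom = 𝟙 _)
    (hfix : ∀ σ : L ≃ₐ[k] L, (∀ e : E, σ e = e) → ∀ c, torMap f n σ.toAlgHom c = c) :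
    Function.Surjective (torMap f n E.val) := by
  intro c
  let f' : PicF.XT f (extObj k E) ⟶ Spec (CommRingCat.of E) := pullback.snd f (extObj k E).hom
  haveI : QuasiCompact f := quasiCompact_of_field f
  haveI : QuasiSeparated f := inferInstance
  haveI : CompactSpace (PicF.XT f (extObj k E)) := QuasiCompact.compactSpace_of_compactSpace f'
  haveI : QuasiSeparatedSpace (PicF.XT f (extObj k E)) := quasiSeparatedSpace_of_quasiSeparated f'
  let v : Spec (CommRingCat.of L) ⟶ Spec (CommRingCat.of E) := (extObj E L).hom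
  have hv : v ≫ (extObj k E).hom = (extObj k L).hom := Over.w (extHom (k := k) E.val)
  have hsq : IsPullback (pullback.fst f' v ≫ pullback.fst f (extObj k E).hom) (pullback.snd f' v) f
      (extObj k L).hom :=
    hv ▸ (IsPullback.of_hasPullback f' v).paste_horiz (IsPullback.of_hasPullback f (extObj k E).hom)
  let J : PicF.XT f' (extObj E L) ≅ PicF.XT f (extObj k L) := hsq.isoPullback
  have hJ₁ : J.hom ≫ pullback.fst f (extObj k L).hom =
      pullback.fst f' v ≫ pullback.fst f (extObj k E).hom := hsq.isoPullback_hom_fst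
  have hJ₂ : J.hom ≫ pullback.snd f (extObj k L).hom = pullback.snd f' v := hsq.isoPullback_hom_snd
  let d := PicF.pullCl J.hom c.1
  have hJval : J.hom ≫ PicF.XTmap f (extHom E.val) = pullback.fst f' v := by
    apply pullback.hom_ext
    · rw [Category.assoc, XTmap_fst, hJ₁]
    · rw [Category.assoc, XTmap_snd, reassoc_of% hJ₂, pullback.condition]
      rfl
  obtain ⟨c', hc', hc'd⟩ := exists_galois_descends f' h' x hx L
    (d := d) (isInvertibleCl_pullCl _ (mem_torSet.1 c.2).1) fun σ => by
      have hσ : PicF.XTmap f' (extHom σ.toAlgHom) ≫ J.hom =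
          J.hom ≫ PicF.XTmap f (extHom (σ.toAlgHom.restrictScalars k)) := by
        apply pullback.hom_ext
        · rw [Category.assoc, Category.assoc, hJ₁, XTmap_fst, hJ₁, reassoc_of% (XTmap_fst (f := f') (extHom σ.toAlgHom))]
        · rw [Category.assoc, Category.assoc, hJ₂, XTmap_snd]
          rw [XTmap_snd (f := f) (extHom (σ.toAlgHom.restrictScalars k)), reassoc_of% hJ₂]
          rfl
      show PicF.pullCl _ (PicF.pullCl J.hom c.1) = _
      rw [← pullCl_comp, hσ, pullCl_comp]
      exact congrArg (PicF.pullCl J.hom)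
        (congrArg Subtype.val (hfix (σ.restrictScalars k) (fun e => σ.commutes e) c))
  have hval : PicF.pullCl (PicF.XTmap f (extHom E.val)) c' = c.1 := by
    have h1 : PicF.pullCl J.inv (PicF.pullCl (pullback.fst f' v) c') = PicF.pullCl J.inv d := congrArg _ hc'd
    rw [← hJval, pullCl_comp, ← pullCl_comp J.inv, Iso.inv_hom_id, pullCl_id] at h1
    rw [h1, ← pullCl_comp, Iso.inv_hom_id, pullCl_id]
  refine ⟨⟨c', mem_torSet.2 ⟨hc', ?_⟩⟩, Subtype.ext hval⟩
  obtain ⟨M, hM, hMi⟩ := id hc'
  have h1 : PicF.IsInvertibleCl (toCls c' ^ n : PicF.Cl _) := by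
    refine ⟨CohB1.tensorPow M n, ?_, H11Ample.isInvertible_tensorPow hMi n⟩
    show H25Theta.cls _ = toCls c' ^ n
    rw [H25Theta.cls_pow, show H25Theta.cls M = toCls c' from hM]
  refine pullCl_extHom_injective f h E.val h1 ⟨_, rfl, H11Ample.isInvertible_structureModule⟩ ?_
  show H25Theta.pull _ (toCls c' ^ n) = H25Theta.pull _ 1
  rw [map_pow, map_one]
  show toCls (PicF.pullCl (PicF.XTmap f (extHom E.val)) c') ^ n = 1
  rw [hval]
  exact (mem_torSet.1 c.2).2

end Action

variable {k : Type u} [Field k] {X : Scheme.{u}} [X.Over (Spec (CommRingCat.of k))] [IsIntegral X]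
  [IsProper (X ↘ Spec (CommRingCat.of k))] [Smooth (X ↘ Spec (CommRingCat.of k))]

attribute [local instance 10000] H10Coh.hasSheafifyAb H10Coh.hasWeakSheafifyAb H10Coh.hasExtAb H10Coh.enoughInjAb

/-- Constant global functions stay constant after a field extension. -/
theorem isIso_appTop_bc (h0 : Module.finrank k (Coh.HH X (Coh.structureModule X) 0) = 1) (E : Type u) [Field E]
    [Algebra k E] : IsIso (Curv2.bcSnd k X E).appTop := by
  letI : (Curv2.bc k X E).Over (Spec (CommRingCat.of E)) := ⟨Curv2.bcSnd k X E⟩
  have hsq : IsPullback (Curv2.bcFst k X E) (Curv2.bc k X E ↘ Spec (CommRingCat.of E))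
      (X ↘ Spec (CommRingCat.of k)) (Spec.map (CommRingCat.ofHom (algebraMap k E))) := IsPullback.of_hasPullback _ _
  haveI : IsProper (Curv2.bc k X E ↘ Spec (CommRingCat.of E)) := MorphismProperty.of_isPullback hsq inferInstance
  haveI := H29RR.isNoetherian_of_proper (k := k) (X := X)
  refine LeadBC.GenBC.isIso_appTop_of_hRank (Curv2.bc k X E ↘ Spec (CommRingCat.of E)) ?_
  exact (((H29RR.hhIso (k := E) (H16Derived.KFlat.Stalk.structurePullbackIso (Curv2.bcFst k X E)) 0).finrank_eq).symm.trans
    (H28Int.FieldExt.finrank_HH_bc E hsq (H10Coh.isCoh_structureModule' X) 0)).trans h0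

attribute [local instance] Curv2.resAlgebra in
/-- A separable extension of bounded degree with a rational point and all torsion classes. -/
theorem exists_ext_point_full_torsion (hdim : topologicalKrullDim X = 1)
    (h0 : Module.finrank k (Coh.HH X (Coh.structureModule X) 0) = 1) (hg : 2 ≤ Curv2.genus k X)
    (n : ℕ) (hn : IsUnit (n : k)) :
    ∃ (k' : Type u) (_ : Field k') (_ : Algebra k k'), FiniteDimensional k k' ∧ Algebra.IsSeparable k k' ∧
      Module.finrank k k' ≤ (2 * Curv2.genus k X - 2) * Nat.factorial (n ^ (2 * Curv2.genus k X)) ∧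
      (∃ x : Spec (CommRingCat.of k') ⟶ Curv2.bc k X k', x ≫ Curv2.bcSnd k X k' = 𝟙 _) ∧
      Nat.card (torSet (Curv2.bc k X k') n) = n ^ (2 * Curv2.genus k X) := by
  classical
  let f := X ↘ Spec (CommRingCat.of k)
  obtain ⟨x, hx, hsep, hdeg, hfd⟩ := SepPoint.exists_closedPoint_sep_le (k := k) hdim h0 hg
  haveI := hsep; haveI := hfd
  let a : X.residueField x →ₐ[k] SeparableClosure k := IsSepClosed.lift
  obtain ⟨L, hLfd, hLgal, hsL, hcard⟩ := exists_galois_full_torsion n hdim h0 hn
    (Finset.univ.image fun i => a (Module.finBasis k (X.residueField x) i))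
  haveI := hLfd; haveI := hLgal
  haveI := H29RR.isNoetherian_of_proper (k := k) (X := X)
  haveI : QuasiSeparatedSpace X := quasiSeparatedSpace_of_quasiSeparated f
  have hrange : ∀ z, a z ∈ L := by
    intro z
    rw [← (Module.finBasis k (X.residueField x)).sum_repr z, map_sum]
    refine sum_mem fun i _ => ?_
    rw [map_smul]
    exact L.smul_mem (hsL (Finset.mem_coe.2 (Finset.mem_image_of_mem _ (Finset.mem_univ i))))
  let aL : X.residueField x →ₐ[k] L := a.codRestrict L.toSubalgebra hrange
  let k₁ : IntermediateField k L := aL.fieldRange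
  have hk₁ : Module.finrank k k₁ = Module.finrank k (X.residueField x) :=
    (AlgEquiv.ofInjectiveField aL).toLinearEquiv.finrank_eq.symm
  let ρ := torPerm f n L
  let H : Subgroup (L ≃ₐ[k] L) := k₁.fixingSubgroup ⊓ ρ.ker
  let E := IntermediateField.fixedField H
  have hle : k₁ ≤ E := fun z hz σ => (inf_le_left (a := k₁.fixingSubgroup) σ.2) ⟨z, hz⟩
  have hEH : E.fixingSubgroup = H := IntermediateField.fixingSubgroup_fixedField H
  haveI : Finite (torSet (PicF.XT f (extObj k L)) n) := by
    refine Nat.finite_of_card_ne_zero ?_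
    rw [hcard]
    exact pow_ne_zero _ fun h => hn.ne_zero (by rw [h, Nat.cast_zero])
  have hindex : Module.finrank k E ≤
      (2 * Curv2.genus k X - 2) * Nat.factorial (n ^ (2 * Curv2.genus k X)) := by
    rw [show Module.finrank k E = E.fixingSubgroup.index from
      IntermediateField.finrank_eq_fixingSubgroup_index L E, hEH,
      ← Subgroup.relIndex_mul_index (inf_le_left : H ≤ k₁.fixingSubgroup),
      show k₁.fixingSubgroup.index = Module.finrank k k₁ from
        (IntermediateField.finrank_eq_fixingSubgroup_index L k₁).symm, hk₁, mul_comm]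
    refine Nat.mul_le_mul hdeg ?_
    rw [show H.relIndex k₁.fixingSubgroup = ρ.ker.relIndex k₁.fixingSubgroup from
      Subgroup.inf_relIndex_left _ _, Subgroup.relIndex_ker]
    refine (Nat.card_le_card_of_injective _ Subtype.val_injective).trans ?_
    rw [Nat.card_perm, hcard]
  let ι : X.residueField x →ₐ[k] E := aL.codRestrict E.toSubalgebra fun z => hle ⟨z, rfl⟩
  obtain ⟨y, hy⟩ := exists_point_of_algHom x E ι
  refine ⟨E, inferInstance, inferInstance, inferInstance, inferInstance, hindex, ⟨y, hy⟩, ?_⟩
  rw [← hcard]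
  refine Nat.card_eq_of_bijective (torMap f n E.val)
    ⟨torMap_injective f n (isIso_appTop_of_h0 h0) E.val, ?_⟩
  refine torMap_surjective_of_fixed f n (isIso_appTop_of_h0 h0) L E (isIso_appTop_bc h0 E) y hy fun σ hσ c => ?_
  have hσH : σ ∈ H := by
    rw [← hEH]
    exact fun e => hσ e
  exact congrArg (fun p : Equiv.Perm _ => p c) (show ρ σ = 1 from hσH.2)

end Groth.Agent.H29Jac
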