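import Groth.Agent.H29Ell.PicGroup

/-!
# A scheme representing the rigidified Picard functor represents the relative Picard sheaf
-/

set_option autoImplicit false
set_option linter.style.haveILetI false
set_option linter.unusedSectionVars false
set_option maxHeartbeats 1200000
set_option backward.isDefEq.respectTransparency.types false

noncomputable section

universe u

open CategoryTheory CategoryTheory.Limits AlgebraicGeometry Opposite

namespace Groth.Agent.H29Jac

open Groth.Agent.H17.PullCl Groth.Agent.H12Pic.RigPoints Groth.Agent.H12Pic.PicCurve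
open Groth.Agent.H25Theta (Cls cls pull pullU unitCls pb pT pC pI tI pO)
open Groth.Agent.H29Ell (norm)

variable {X S : Scheme.{u}} (f : X ⟶ S) {σ : S ⟶ X} (hσ : σ ≫ f = 𝟙 S)

theorem isInvertibleCl_isUnit {Y : Scheme.{u}} {c : Cls Y} (hc : PicF.IsInvertibleCl (c : PicF.Cl Y)) : IsUnit c := by
  obtain ⟨L, rfl, hL⟩ := hc
  exact H25Theta.isUnit_cls hL

/-- An invertible class as a unit. -/
def unitOf {Y : Scheme.{u}} {c : PicF.Cl Y} (hc : PicF.IsInvertibleCl c) : (Cls Y)ˣ :=
  (isInvertibleCl_isUnit (c := c) hc).unit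

theorem unitOf_val {Y : Scheme.{u}} {c : PicF.Cl Y} (hc : PicF.IsInvertibleCl c) : (unitOf hc).1 = c := rfl

theorem norm_mem_rigSub (T : Over S) (u : (Cls (PicF.XT f T))ˣ)
    (hu : PicF.IsInvertibleCl (u.1 : PicF.Cl (PicF.XT f T))) :
    norm f σ hσ T u ∈ PicGroup.rigSub f hσ T := by
  obtain ⟨L, hL, hLi⟩ := hu
  have hs := H11Ample.isInvertible_pullback (PicF.secT f σ hσ T) hLi
  obtain ⟨N, hN, ⟨eN⟩⟩ := H11Sym.exists_inverse hs
  have hi : (pullU (PicF.secT f σ hσ T) u)⁻¹.1 = cls N := by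
    refine Units.inv_eq_of_mul_eq_one_left ?_
    show cls N * pull _ u.1 = 1
    rw [show u.1 = cls L from hL.symm]
    exact Quot.sound ⟨eN⟩
  refine ⟨⟨_, ?_, H11Ample.isInvertible_tensor hLi (H11Ample.isInvertible_pullback (PicF.XTproj f T) hN)⟩,
    congrArg Units.val (H29Ell.pullU_secT_norm f σ hσ T u)⟩
  rw [H29Ell.norm_apply, div_eq_mul_inv, ← map_inv, Units.val_mul]
  show _ = u.1 * pull (PicF.XTproj f T) _
  rw [hi, show u.1 = cls L from hL.symm]
  rfl

theorem isInvertibleCl_rig {T : Over S} (u : PicGroup.rigSub f hσ T) :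
    PicF.IsInvertibleCl (u.1.1 : PicF.Cl (PicF.XT f T)) := u.2.1

theorem norm_rig (T : Over S) (u : PicGroup.rigSub f hσ T) : norm f σ hσ T u.1 = u.1 :=
  H29Ell.norm_eq_self f σ hσ T u.1 (Units.ext u.2.2)

theorem exists_cover_trivial {T : Scheme.{u}} {M : T.Modules} (hM : PicF.IsInvertible M) :
    ∃ R ∈ Scheme.fppfPrecoverage T, ∀ ⦃U : Scheme.{u}⦄ (v : U ⟶ T), R v →
      Nonempty ((Scheme.Modules.pullback v).obj M ≅ Coh.structureModule U) := by
  choose U hxU a using hM
  refine ⟨Presieve.ofArrows (fun t => (U t).toScheme) (fun t => (U t).ι), ?_, ?_⟩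
  · rw [Scheme.fppfPrecoverage, Scheme.ofArrows_mem_precoverage_iff]
    exact ⟨fun t => ⟨t, ⟨t, hxU t⟩, rfl⟩, fun t => ⟨inferInstance, inferInstance⟩⟩
  · rintro _ _ ⟨t⟩
    exact ⟨((Scheme.Modules.restrictFunctorIsoPullback (U t).ι).app M).symm ≪≫ (a t).some⟩

theorem isInvertibleCl_pullU_base {T : Over S} (m : (Cls T.left)ˣ)
    (hm : PicF.IsInvertibleCl (m.1 : PicF.Cl T.left)) :
    PicF.IsInvertibleCl ((pullU (PicF.XTproj f T) m).1 : PicF.Cl (PicF.XT f T)) :=
  isInvertibleCl_pullCl _ hm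

variable {P : Over S} {ξ : PicF.Rig f σ hσ P}
  (huniv : ∀ (T : Over S) (c : PicF.Rig f σ hσ T), ∃! g : T ⟶ P, PicF.pullCl (PicF.XTmap f g) ξ.1 = c.1)

include huniv in
/-- The point of a rigidified class. -/
def pt {T : Over S} (u : PicGroup.rigSub f hσ T) : T ⟶ P := (huniv T (PicGroup.toRig f hσ u)).choose

theorem pull_pt {T : Over S} (u : PicGroup.rigSub f hσ T) :
    PicF.pullCl (PicF.XTmap f (pt f hσ huniv u)) ξ.1 = u.1.1 :=
  (huniv T (PicGroup.toRig f hσ u)).choose_spec.1

theorem pt_eq {T : Over S} (u : PicGroup.rigSub f hσ T) (g : T ⟶ P)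
    (hg : PicF.pullCl (PicF.XTmap f g) ξ.1 = u.1.1) : pt f hσ huniv u = g :=
  (huniv T (PicGroup.toRig f hσ u)).unique (pull_pt f hσ huniv u) hg

theorem pt_injective {T : Over S} {u v : PicGroup.rigSub f hσ T} (h : pt f hσ huniv u = pt f hσ huniv v) :
    u = v :=
  Subtype.ext (Units.ext (by rw [← pull_pt f hσ huniv u, h, pull_pt]))

theorem pt_natural {T T' : Over S} (g : T' ⟶ T) (u : PicGroup.rigSub f hσ T) :
    pt f hσ huniv (PicGroup.rigMap f hσ g u) = g ≫ pt f hσ huniv u := by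
  refine pt_eq f hσ huniv _ _ ?_
  rw [XTmap_comp, pullCl_comp, pull_pt]
  rfl

/-- The group element of a point. -/
def elt {T : Over S} (g : T ⟶ P) : PicGroup.rigSub f hσ T :=
  ((PicGroup.toRig_bijective f hσ T).2 (rigPull f hσ g ξ)).choose

theorem pt_elt {T : Over S} (g : T ⟶ P) : pt f hσ huniv (elt f hσ (ξ := ξ) g) = g :=
  pt_eq f hσ huniv _ _ (congrArg Subtype.val ((PicGroup.toRig_bijective f hσ T).2 (rigPull f hσ g ξ)).choose_spec).symm

/-- Points and rigidified classes. -/
def ptEquiv (T : Over S) : PicGroup.rigSub f hσ T ≃ (T ⟶ P) where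
  toFun := pt f hσ huniv
  invFun := elt f hσ (ξ := ξ)
  left_inv u := pt_injective f hσ huniv (pt_elt f hσ huniv _)
  right_inv g := pt_elt f hσ huniv g

open Classical in
/-- The map from classes to points: normalise along the section. -/
def phi (T : Over S) (c : PicF.Cl (PicF.XT f T)) : T ⟶ P :=
  if h : PicF.IsInvertibleCl c then pt f hσ huniv ⟨norm f σ hσ T (unitOf h), norm_mem_rigSub f hσ T _ h⟩
  else pt f hσ huniv 1

theorem phi_eq (T : Over S) {c : PicF.Cl (PicF.XT f T)} (h : PicF.IsInvertibleCl c) :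
    phi f hσ huniv T c = pt f hσ huniv ⟨norm f σ hσ T (unitOf h), norm_mem_rigSub f hσ T _ h⟩ :=
  dif_pos h

theorem phi_rig (T : Over S) (u : PicGroup.rigSub f hσ T) :
    phi f hσ huniv T (u.1.1 : PicF.Cl (PicF.XT f T)) = pt f hσ huniv u := by
  rw [phi_eq f hσ huniv T (isInvertibleCl_rig f hσ u)]
  congr 1
  refine Subtype.ext ?_
  refine Eq.trans (congrArg (norm f σ hσ T) (?_ : _ = u.1)) (norm_rig f hσ T u)
  exact Units.ext rfl

/-- The representing scheme represents the relative Picard sheaf. -/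
theorem isRelPicK : AbDual.IsRelPicK Scheme.fppfPrecoverage f P (phi f hσ huniv) where
  natural T T' g c hc := by
    rw [phi_eq f hσ huniv T hc, phi_eq f hσ huniv T' (isInvertibleCl_pullCl _ hc), ← pt_natural]
    congr 1
    refine Subtype.ext (Eq.trans ?_ (H29Ell.norm_natural f σ hσ g _).symm)
    exact congrArg (norm f σ hσ T') (Units.ext rfl)
  locallySurjective T a := by
    refine ⟨Presieve.ofArrows (fun _ : PUnit.{u + 1} => T.left) (fun _ => 𝟙 T.left), ?_, ?_⟩
    · rw [Scheme.fppfPrecoverage, Scheme.ofArrows_mem_precoverage_iff]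
      exact ⟨fun t => ⟨PUnit.unit, t, rfl⟩, fun _ => ⟨inferInstance, inferInstance⟩⟩
    · rintro _ _ ⟨⟩
      let v := elt f hσ (ξ := ξ) (AbDual.ovrHom T (𝟙 T.left) ≫ a)
      exact ⟨_, isInvertibleCl_rig f hσ v, (phi_rig f hσ huniv _ v).trans (pt_elt f hσ huniv _)⟩
  locallyInjective T c c' hc hc' h := by
    rw [phi_eq f hσ huniv T hc, phi_eq f hσ huniv T hc'] at h
    have h' := congrArg Subtype.val (pt_injective f hσ huniv h)
    change norm f σ hσ T (unitOf hc) = norm f σ hσ T (unitOf hc') at h'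
    rw [H29Ell.norm_apply, H29Ell.norm_apply, div_eq_div_iff_div_eq_div, ← map_div, ← map_div] at h'
    let m := pullU (PicF.secT f σ hσ T) (unitOf hc / unitOf hc')
    obtain ⟨L, hL, hLi⟩ := id hc
    obtain ⟨L', hL', hL'i⟩ := id hc'
    obtain ⟨N, hN, ⟨eN⟩⟩ := H11Sym.exists_inverse hL'i
    let W := (Scheme.Modules.pullback (PicF.secT f σ hσ T)).obj (CohB1.tensorMod L N)
    have hW : PicF.IsInvertible W := H11Ample.isInvertible_pullback _ (H11Ample.isInvertible_tensor hLi hN)
    have hm : m.1 = cls W := by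
      show pull _ (unitOf hc / unitOf hc').1 = pull _ (cls L * cls N)
      rw [div_eq_mul_inv, Units.val_mul, unitOf_val, show c = cls L from hL.symm,
        show (unitOf hc')⁻¹.1 = cls N from Units.inv_eq_of_mul_eq_one_left (by
          rw [unitOf_val, show c' = cls L' from hL'.symm]; exact Quot.sound ⟨eN⟩)]
    obtain ⟨R, hR, hR'⟩ := exists_cover_trivial hW
    refine ⟨R, hR, fun U v hv => ?_⟩
    let q := AbDual.ovrHom T v
    have hm1 : pullU v m = 1 := by
      refine Units.ext ?_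
      show pull v m.1 = 1
      rw [hm]
      exact Quot.sound (hR' v hv)
    have hk : pullU (PicF.XTmap f q) (pullU (PicF.XTproj f T) m) = 1 := by
      rw [H25Theta.pullU_pullU, XTmap_snd, ← H25Theta.pullU_pullU,
        show q.left = v from rfl, hm1, map_one]
    rw [← h', map_div, div_eq_one] at hk
    exact congrArg Units.val hk

end Groth.Agent.H29Jac
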